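import Cfsg.Agent.Fusion.Layer.Quasi
import Cfsg.Agent.Fusion.CentralPair.System

/-!
The subgroup of a normal subsystem of a quasisimple system is central or the whole group.
-/

set_option autoImplicit false
set_option linter.unusedSectionVars false
set_option linter.style.haveILetI false

namespace Cfsg.Lib.Fusion.CompNormal

open Cfsg Cfsg.FusionSystem Cfsg.Lib.Fusion

universe u

variable {Ω : Type u} [Group Ω] {S V : Subgroup Ω} {F : FusionSystem S} {D : FusionSystem V}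
  {p : ℕ} [Finite S] [Fact p.Prime]

theorem le_center_or_eq_of_center_le (hS : IsPGroup p S) (hq : F.Quasisimple p)
    (hD : D.IsWeaklyNormalIn F p) (hZV : F.center ≤ V) : V ≤ F.center ∨ V = S := by
  obtain ⟨hF, -, hsimp⟩ := hq
  obtain ⟨hDs, -, hinv⟩ := hD
  have hVsc := hinv.2.1
  have hVS : V ≤ S := hVsc.1
  haveI := finite_of_le hVS
  have hVp : IsPGroup p V := hS.of_injective _ (Subgroup.inclusion_injective hVS)
  set Z := F.center
  have hZS : Z ≤ S := isCentral_center.1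
  have hZF : F.StronglyClosed Z := stronglyClosed_of_apply hZS fun P f hf x hx hxZ => by
    rw [apply_of_mem_center hxZ hf hx]
    exact hxZ
  have hZD : D.StronglyClosed Z := stronglyClosed_of_apply hZV fun P f hf x hx hxZ => by
    rw [apply_of_mem_center hxZ (CharSub.isMap_of_sub hinv.1 hf) hx]
    exact hxZ
  set θ := QuotientGroup.mk' (Z.subgroupOf S)
  have hker : ∀ s : S, θ s = 1 ↔ (s : Ω) ∈ Z := fun s =>
    (QuotientGroup.eq_one_iff s).trans Subgroup.mem_subgroupOf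
  have hrange : θ.range = ⊤ := MonoidHom.range_eq_top.mpr (QuotientGroup.mk'_surjective _)
  obtain ⟨E, hE⟩ := exists_factor_of_range (kerClosed_of_stronglyClosed hZF hker) hZS hker hrange
  have h := isQuot_of_isFactorSystem hZF hE
  set θV := θ.comp (Subgroup.inclusion hVS)
  have hkerV : ∀ s : V, θV s = 1 ↔ (s : Ω) ∈ Z := fun s => hker _
  obtain ⟨T', hT'⟩ : ∃ T', θV.range = T' := ⟨_, rfl⟩
  obtain ⟨E', hE'⟩ := exists_factor_of_range (kerClosed_of_stronglyClosed hZD hkerV) hZV hkerV hT'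
  have h' := isQuot_of_isFactorSystem hZD hE'
  haveI : Finite (⊤ : Subgroup (S ⧸ Z.subgroupOf S)) := finite_of_range hrange
  haveI : Finite T' := finite_of_le (le_top : T' ≤ ⊤)
  have hTp : IsPGroup p (⊤ : Subgroup (S ⧸ Z.subgroupOf S)) :=
    (hS.to_quotient _).of_injective (Subgroup.subtype _) Subtype.val_injective
  have hT'p : IsPGroup p T' := hTp.of_injective _ (Subgroup.inclusion_injective le_top)
  obtain ⟨hEs, -, hall⟩ := hsimp E hE
  have hqV : ∀ {x : Ω}, x ∈ V → qmap θV x = qmap θ x := fun {x} hx => by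
    rw [qmap_apply hx, qmap_apply (hVS hx)]
    rfl
  have hmemV : ∀ {x : Ω}, x ∈ S → qmap θ x ∈ T' → x ∈ V := fun {x} hxS hxT => by
    obtain ⟨v, hv⟩ := hT'.ge hxT
    rw [qmap_apply hxS] at hv
    have hz : x * (v : Ω)⁻¹ ∈ Z :=
      (hker (⟨x, hxS⟩ * (Subgroup.inclusion hVS v)⁻¹)).mp (by
        rw [map_mul, map_inv, ← hv]
        exact mul_inv_cancel _)
    simpa using V.mul_mem (hZV hz) v.2
  have hpre : ∀ {P : Subgroup (S ⧸ Z.subgroupOf S)}, P ≤ T' →
      preimageAlong θ P = preimageAlong θV P := fun {P} hP => by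
    ext x
    rw [mem_preimageAlong, mem_preimageAlong]
    constructor
    · rintro ⟨hxS, hxP⟩
      have hxV := hmemV hxS (hP hxP)
      exact ⟨hxV, by rwa [hqV hxV]⟩
    · rintro ⟨hxV, hxP⟩
      exact ⟨hVS hxV, by rwa [← hqV hxV]⟩
  have hsub : E'.IsSubsystemOf E := fun P φ hφ => by
    refine IsMap.mem_toFun' ?_
    obtain ⟨f, hf, e⟩ := h'.exists_lift (isMap_of_mem hφ)
    refine (h.iff _ _).mpr ⟨le_top, f, ?_, fun x hx => ?_⟩
    · rw [hpre (E'.le_of_mem hφ).1]
      exact CharSub.isMap_of_sub hinv.1 hf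
    · rw [hpre (E'.le_of_mem hφ).1] at hx
      rw [← hqV (preimageAlong_le _ hx), ← hqV (hf.mem_S hx)]
      exact e x hx
  have hscE : E.StronglyClosed T' := stronglyClosed_of_apply le_top fun P f' hf' y hy hyT => by
    obtain ⟨f, hf, e⟩ := h.exists_lift hf'
    obtain ⟨x, hx, rfl⟩ := exists_preimage (θ := θ) (hrange.symm ▸ le_top) hy
    rw [e x hx]
    have hfx := stronglyClosed_apply hVsc hf hx (hmemV (preimageAlong_le _ hx) hyT)
    exact hT'.le ⟨⟨_, hfx⟩, by rw [← qmap_apply hfx]; exact hqV hfx⟩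
  have hX : StrongInv E' E := by
    intro P Q hPQ hQ f' hf' hfQ g' hg' k' hk
    obtain ⟨f, hf, ef⟩ := h'.exists_lift hf'
    obtain ⟨g, hg, eg⟩ := h.exists_lift hg'
    rw [hpre hQ] at hg eg
    have hPQ₀ : preimageAlong θV P ≤ preimageAlong θV Q := fun x hx =>
      mem_preimageAlong.mpr ⟨(mem_preimageAlong.mp hx).1, hPQ (mem_preimageAlong.mp hx).2⟩
    have hfm : ∀ x ∈ preimageAlong θV P, f x ∈ preimageAlong θV Q := fun x hx => by
      refine mem_preimageAlong.mpr ⟨hf.mem_S hx, ?_⟩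
      rw [← ef x hx]
      exact hfQ _ (mem_preimageAlong.mp hx).2
    obtain ⟨d, hd, -, hdl, -⟩ := (hg.mono hPQ₀).exists_inv
    have h1 := strongInv_of_invariant hinv _ _ hPQ₀ (preimageAlong_le _) f hf hfm g hg
      (g ∘ (f ∘ d)) fun x hx => by
        show g (f (d (g x))) = g (f x)
        rw [hdl x hx]
    have hgV : ∀ x ∈ preimageAlong θV Q, g x ∈ V := fun x hx =>
      stronglyClosed_apply hVsc hg hx (preimageAlong_le _ hx)
    have hval : ∀ x ∈ preimageAlong θV Q, g' (qmap θV x) = qmap θV (g x) := fun x hx => by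
      rw [hqV (preimageAlong_le _ hx), hqV (hgV x hx)]
      exact eg x hx
    have hPT : P ≤ T' := hPQ.trans hQ
    have hle : preimageAlong θV (img P g') ≤ img (preimageAlong θV P) g := by
      intro y hy
      obtain ⟨hyV, hyi⟩ := mem_preimageAlong.mp hy
      obtain ⟨x', hx', e'⟩ := (hg'.mono hPQ).mem_img.mp hyi
      obtain ⟨x, hx, rfl⟩ := exists_preimage (θ := θV) (hT'.ge.trans' hPT) hx'
      rw [hval x (hPQ₀ hx)] at e'
      have hgx := hgV x (hPQ₀ hx)
      have hdZ : (g x)⁻¹ * y ∈ Z := by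
        refine (hkerV ⟨_, V.mul_mem (V.inv_mem hgx) hyV⟩).mp ?_
        rw [← qmap_apply (θ := θV), qmap_mul (V.inv_mem hgx) hyV, qmap_inv hgx, ← e',
          inv_mul_cancel]
      have hZP : Z ≤ preimageAlong θV P := fun z hz => mem_preimageAlong.mpr ⟨hZV hz, by
        rw [qmap_apply (hZV hz), (hkerV ⟨z, hZV hz⟩).mpr hz]; exact Subgroup.one_mem _⟩
      have hfix : g ((g x)⁻¹ * y) = (g x)⁻¹ * y :=
        apply_of_mem_center hdZ hg (hPQ₀ (hZP hdZ))
      have h2 : g (x * ((g x)⁻¹ * y)) = y := by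
        rw [hg.map_mul (hPQ₀ hx) (hPQ₀ (hZP hdZ)), hfix]
        group
      exact h2 ▸ IsMap.apply_mem_img (Subgroup.mul_mem _ hx (hZP hdZ))
    refine (h'.iff _ _).mpr ⟨IsMap.img_le_iff.mpr fun x hx => stronglyClosed_apply hscE hg' (hPQ hx)
      (hPT hx), g ∘ (f ∘ d), h1.mono hle, fun y hy => ?_⟩
    obtain ⟨x, hx, rfl⟩ := (hg.mono hPQ₀).mem_img.mp (hle hy)
    show k' (qmap θV (g x)) = qmap θV (g (f (d (g x))))
    rw [hdl x hx, ← hval x (hPQ₀ hx), hk _ (mem_preimageAlong.mp hx).2, ef x hx,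
      hval _ (hfm x hx)]
  have hE'n : E'.IsWeaklyNormalIn E p :=
    ⟨h'.saturated hVp hDs, hEs, (invariant_iff_strongInv hTp hEs hsub hscE).mpr hX⟩
  rcases hall _ _ (WeaklyNormal.residual_normal hTp hE'n
    (PrimeIndex.residual_spec hT'p hE'n.1)) with h0 | ⟨h1, -⟩
  · refine Or.inl fun x hx => ?_
    have : θV ⟨x, hx⟩ ∈ T' := hT'.le ⟨_, rfl⟩
    rw [h0, Subgroup.mem_bot] at this
    exact (hkerV _).mp this
  · exact Or.inr (le_antisymm hVS fun x hx => hmemV hx (h1 ▸ Subgroup.mem_top _))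

/-- The subgroup of a normal subsystem of a quasisimple system is central or the whole group. -/
theorem le_center_or_eq (hS : IsPGroup p S) (hq : F.Quasisimple p) (hD : D.IsNormalIn F p) :
    V ≤ F.center ∨ V = S := by
  have hF := hq.1
  obtain ⟨hZS, hcen⟩ := isCentral_iff.mp (isCentral_center (F := F))
  have hVS : V ≤ S := hD.1.2.2.2.1.1
  have hZn : F.IsNormal F.center := isNormal_of_extendsWith hZS fun P f hf => by
    obtain ⟨k, hk, hkf, hkz⟩ := hcen P f hf
    exact ⟨k, hk, hkf, img_eq_of_apply hk le_sup_right fun x hx => (hkz x hx).symm ▸ hx⟩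
  have hp : CPair.Pair F (innerFusionSystem F.center) D p :=
    ⟨hS, hF, NormCent.inner_isNormalIn hS hF hZn, hD, fun a ha b hb =>
      comm_of_center ha b (hVS hb) |>.symm⟩
  obtain ⟨D', hD', -⟩ := CPair.exists_normal_product hp
  rcases le_center_or_eq_of_center_le hS hq hD'.1 le_sup_left with h | h
  · exact Or.inl (le_sup_right.trans h)
  refine Or.inr (le_antisymm hVS (hq.2.1.ge.trans (hyperfocal_le_of_coprime
    fun P hP α hα _ x hx => ?_)))
  have hαm := (isMap_autFun hP).mpr hα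
  obtain ⟨k, hk, hkf, hkz⟩ := hcen P _ hαm
  obtain ⟨z, hz, v, hv, rfl⟩ := (CPair.Pair.toComm hp).mem_sup.mp (h.ge (hP hx))
  have hzB : z ∈ P ⊔ F.center := Subgroup.mem_sup_right hz
  have hvB : v ∈ P ⊔ F.center := by
    have := Subgroup.mul_mem _ ((P ⊔ F.center).inv_mem hzB) (Subgroup.mem_sup_left hx)
    rwa [inv_mul_cancel_left] at this
  rw [← hkf _ hx, hk.map_mul hzB hvB, hkz z hz,
    show (z * v)⁻¹ * (z * k v) = v⁻¹ * k v by group]
  exact V.mul_mem (V.inv_mem hv) (stronglyClosed_apply hD.1.2.2.2.1 hk hvB hv)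

end Cfsg.Lib.Fusion.CompNormal
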