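import Cfsg.Agent.Fusion.CompNormal.ModCentral
import Cfsg.Agent.Fusion.CompNormal.Proper
import Cfsg.Agent.Fusion.Layer.Exists

/-!
A component lies in a normal subsystem or is centralized by it.
-/

set_option autoImplicit false
set_option linter.unusedSectionVars false
set_option linter.style.haveILetI false

namespace Cfsg.Lib.Fusion.CompNormal

open Cfsg Cfsg.FusionSystem Cfsg.Lib.Fusion
open Cfsg.Lib.Fusion.NormCent

universe u

variable {Ω : Type u} [Group Ω] {p : ℕ}

theorem dichotomy {U : Subgroup Ω} {K : FusionSystem U} {S : Subgroup Ω}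
    {F : FusionSystem S} (hK : K.IsSubnormalIn F p) :
    K.Quasisimple p → p.Prime → Finite S → IsPGroup p S → ∀ {V : Subgroup Ω} {G : FusionSystem V},
      G.IsNormalIn F p → K.IsSubsystemOf G ∨ NormCent.Adm F G U := by
  induction hK with
  | @refl F p =>
    intro hq hp hfin hS V G hG
    haveI := hfin
    haveI : Fact p.Prime := ⟨hp⟩
    rcases le_center_or_eq hS hq hG with hVZ | rfl
    · refine Or.inr ⟨fun s hs => Fusion.mem_centralizerIn.mpr ⟨hs, fun v hv => ?_⟩, fun P f hf =>
        ⟨id, isMap_id (sup_le (hf.le.trans hG.1.2.2.2.1.1) le_rfl), fun x hx => ?_, fun _ _ => rfl⟩⟩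
      · rw [comm_of_center (hVZ hv) s hs, mul_inv_cancel_right]
      · exact (apply_of_mem_center (hVZ (hf.le hx)) (CharSub.isMap_of_sub hG.1.2.2.1 hf) hx).symm
    · exact Or.inl (Layer.le_of_quasisimple hS hq hG.1)
  | @step W S K H F p hKH hH ih =>
    intro hq hp hfin hS V G hG
    haveI := hfin
    haveI : Fact p.Prime := ⟨hp⟩
    have hsub : K.IsSubnormalIn F p := .step hKH hH
    have hWS := hH.1.2.2.2.1.1
    haveI := finite_of_le hWS
    have hWp : IsPGroup p W := hS.of_injective _ (Subgroup.inclusion_injective hWS)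
    obtain ⟨M, ⟨hM, hMG, hMH⟩, -⟩ := Meet.exists_meet hS hG hH
    rcases ih hq hp inferInstance hWp hMH with hle | hadm
    · exact Or.inl fun P => (hle P).trans (hMG.1.2.2.1 P)
    have hadmF : NormCent.Adm F M U :=
      ⟨fun x hx => ⟨hWS (hadm.1 hx).1, (hadm.1 hx).2⟩, fun P f hf =>
        let ⟨g, hg, e, hy⟩ := hadm.2 P f hf
        ⟨g, CharSub.isMap_of_sub hH.1.2.2.1 hg, e, hy⟩⟩
    obtain ⟨Y, hY, hmax⟩ := exists_largest hS hM
    obtain ⟨DY, hDY, -, hDYc⟩ := exists_centralizer_subsystem hS hM hY hmax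
    obtain ⟨N, ⟨hN, hNY, -⟩, -⟩ := Meet.exists_meet hS hDY hH
    have hUW : U ≤ W := subnormal_le hKH
    have hKN : K.IsSubsystemOf N :=
      Layer.component_le hsub hq hp inferInstance hS hN (le_inf (hmax U hadmF) hUW)
    obtain ⟨hNs, hF, hNinv⟩ := hN.1
    have hGsc : F.StronglyClosed V := hG.1.2.2.2.1
    have hVS : V ≤ S := hGsc.1
    have hZS : (Y ⊓ W : Subgroup Ω) ≤ S := inf_le_right.trans hWS
    haveI := finite_of_le hZS
    have hZp : IsPGroup p (Y ⊓ W : Subgroup Ω) := hS.of_injective _ (Subgroup.inclusion_injective hZS)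
    set X := V ⊓ (Y ⊓ W : Subgroup Ω)
    have hXVW : X ≤ V ⊓ W := le_inf inf_le_left (inf_le_right.trans inf_le_right)
    -- the intersection is central
    have hXc : ∀ Q, N.IsCentric Q → X ≤ Q := fun Q hQc x hx => by
      refine hQc.2 Q (isConj_refl hQc.1) (Fusion.mem_centralizerIn.mpr ⟨hx.2, fun y hy => ?_⟩)
      have e := (Fusion.mem_centralizerIn.mp (hY.1 (hQc.1 hy).1)).2 x (hXVW hx)
      have e' : y * x = x * y := by
        conv_rhs => rw [← e]
        group
      rw [← e', mul_inv_cancel_right]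
    have hXsc : N.StronglyClosed X := stronglyClosed_of_apply inf_le_right fun P f hf x hx hxX =>
      ⟨stronglyClosed_apply hGsc (CharSub.isMap_of_sub hNinv.1 hf) hx hxX.1, hf.mem_S hx⟩
    have hXn : N.IsNormal X :=
      isNormal_of_le_radical hZp hNs hXsc fun P _ hPc _ => hXc P hPc
    have hcen : X ≤ N.center := by
      refine le_sSup (isCentral_iff.mpr ⟨inf_le_right, fun P f hf => ?_⟩)
      obtain ⟨k, hk, hkf, -⟩ := extend_of_isNormal hXn hf
      refine ⟨k, hk, hkf, fun x hx => ?_⟩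
      have hxs : x ∈ P ⊔ X := Subgroup.mem_sup_right hx
      obtain ⟨φ, hφ, e⟩ := CharSub.isMap_of_sub hNY.1.2.2.1 hk
      obtain ⟨-, -, -, g, -, hgf, hgR⟩ := mem_centralizerHom_iff.mp (hDYc _ hφ)
      exact (e ⟨x, hxs⟩).symm.trans ((toFun'_apply_mem φ hxs).symm.trans
        ((hgf x hxs).symm.trans (hgR x (hXVW hx))))
    obtain ⟨-, hext⟩ := isCentral_iff.mp (isCentral_center (F := N))
    -- the automorphisms of order prime to `p`
    have hUS : U ≤ S := hUW.trans hWS
    haveI := finite_of_le hUS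
    haveI := finite_of_le hVS
    have key : ∀ P : Subgroup Ω, P ≤ U → ∀ α ∈ K.autGroup P, (orderOf α).Coprime p →
        ∃ ν ∈ F.autGroup (P ⊔ V), (∀ x ∈ P, autFun ν x = autFun α x) ∧
          ∀ r ∈ V, autFun ν r = r := by
      intro P hP α hα hcop
      have hPS := hP.trans hUS
      obtain ⟨δ₀, hδ₀, eδ, hδc⟩ := hext P _ (CharSub.isMap_of_sub hKN ((isMap_autFun hP).mpr hα))
      have hδ := hδ₀.mono (sup_le_sup_left hcen P)
      have hδU : ∀ x ∈ X, δ₀ x = x := fun x hx => hδc x (hcen hx)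
      obtain ⟨γ, hγ, eγ, hγR⟩ := modCentral hS hN hGsc hcen hδ
      have hle : P ⊔ V ≤ P ⊔ X ⊔ V := sup_le_sup_right le_sup_left V
      have hγ' := hγ.mono hle
      have hγP : ∀ x ∈ P, γ x = autFun α x := fun x hx =>
        (eγ x (Subgroup.mem_sup_left hx)).trans (eδ x hx)
      have hγU : ∀ x ∈ X, γ x = x := fun x hx =>
        (eγ x (Subgroup.mem_sup_right hx)).trans (hδU x hx)
      have hBS : P ⊔ V ≤ S := sup_le hPS hVS
      haveI := finite_of_le hBS
      obtain ⟨μ, hμ, eμ⟩ := hγ'.exists_aut (by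
        rw [hγ'.img_sup, img_congr hγP, img_autFun,
          img_eq_of_apply hγ' le_sup_right fun r hr => modExt_apply hγR hr])
      obtain ⟨e, he, heP⟩ := exists_coprime_agree hBS le_sup_left
        (fun x hx => (eμ x (Subgroup.mem_sup_left hx)).trans (hγP x hx)) hcop
      refine ⟨μ ^ e, pow_mem hμ e, heP, fun r hr => ?_⟩
      have hrB : r ∈ P ⊔ V := Subgroup.mem_sup_right hr
      have hμm : IsMap F (P ⊔ V) (autFun μ) := (isMap_autFun hBS).mpr hμ
      set u := r⁻¹ * γ r
      have hu : u ∈ X := hγR r hr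
      have huB : u ∈ P ⊔ V := Subgroup.mem_sup_right hu.1
      have hμu : autFun μ u = u := (eμ u huB).trans (hγU u hu)
      have hit : ∀ n : ℕ, autFun (μ ^ n) r = r * u ^ n := by
        intro n
        induction n with
        | zero => rw [pow_zero, pow_zero, autFun_one hrB, mul_one]
        | succ n ih =>
          rw [pow_succ', autFun_mul _ _ hrB, ih,
            hμm.map_mul hrB (Subgroup.pow_mem _ huB n), hμm.map_pow huB, hμu, eμ r hrB,
            show γ r = r * u by simp only [u]; group, pow_succ', mul_assoc]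
      rw [hit e]
      have h1 : autFun ((μ ^ e) ^ orderOf (μ ^ e)) r = r := by
        rw [pow_orderOf_eq_one, autFun_one hrB]
      rw [← pow_mul, hit] at h1
      have h2 : (u ^ e) ^ orderOf (μ ^ e) ∈ (⊥ : Subgroup Ω) := by
        rw [← pow_mul, Subgroup.mem_bot]
        exact mul_eq_left.mp h1
      obtain ⟨i, hi⟩ := exists_pow_eq_one hS (S.pow_mem (hVS hu.1) e)
      rw [Subgroup.mem_bot.mp (mem_of_pow_mem_coprime hi he h2), mul_one]
    -- the subgroup
    have hUC : U ≤ centralizerIn S V := by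
      refine le_inf hUS (hq.2.1.ge.trans (hyperfocal_le_of_coprime fun P hP α hα hcop x hx => ?_))
      obtain ⟨ν, hν, eν, hνR⟩ := key P hP α hα hcop
      refine Subgroup.mem_centralizer_iff.mpr fun r hr => ?_
      have hPS := hP.trans hUS
      have hxr : x * r * x⁻¹ ∈ V :=
        conj_mem_of_mem_normalizer (normalizes_of_stronglyClosed hGsc (hPS hx)) hr
      have h1 := ((isMap_autFun (sup_le hPS hVS)).mpr hν).map_conj
        (Subgroup.mem_sup_left (T := V) hx) (Subgroup.mem_sup_right (S := P) hr)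
      rw [hνR _ hxr, hνR _ hr, eν x hx] at h1
      calc r * (x⁻¹ * autFun α x) = x⁻¹ * (x * r * x⁻¹) * autFun α x := by group
        _ = x⁻¹ * autFun α x * r := by rw [h1]; group
    refine Or.inr ?_
    obtain ⟨C, hC, hCmax⟩ := exists_largest hS hG
    refine hC.mono (hq.2.1.ge.trans ((hyperfocal_le_of_coprime fun P hP α hα hcop x hx => ?_).trans
      (hyperfocal_le_largest hS hG hCmax)))
    obtain ⟨ν, hν, eν, hνR⟩ := key P hP α hα hcop
    have hPC : P ≤ centralizerIn S V := hP.trans hUC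
    have hm : IsMap F (P ⊔ V) (autFun ν) := (isMap_autFun (sup_le (hP.trans hUS) hVS)).mpr hν
    have hα' : α ∈ (centralizerSystem F hG.1.2.2.2.1.1).autGroup P :=
      (isMap_autFun hPC).mp ((isMap_of_isCentralizerSystem
        (isCentralizerSystem_centralizerSystem _)).mpr ⟨hPC,
          fun y hy => hPC (autFun_mem α hy),
          CharSub.isMap_of_sub hNinv.1 (CharSub.isMap_of_sub hKN
            ((isMap_autFun hP).mpr hα)), autFun ν, hm, eν, hνR⟩)
    exact mem_hyperfocalSubgroup (α := ⟨α, hα'⟩) hPC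
      (Cfsg.Lib.Transfer.mem_pResidual_of_coprime (by rwa [← Subgroup.orderOf_coe])) hx

end Cfsg.Lib.Fusion.CompNormal
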