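import Cfsg.Agent.Fusion.Layer.Exists
import Cfsg.Agent.Fusion.LayerInvariant

/-!
The layer of a normal subsystem is normal and is its own layer.
-/

set_option autoImplicit false
set_option linter.unusedSectionVars false
set_option linter.style.haveILetI false

namespace Cfsg.Lib.Fusion.CompNormal

open Cfsg Cfsg.FusionSystem Cfsg.Lib.Fusion

universe u

variable {Ω : Type u} [Group Ω] {S V T : Subgroup Ω} {F : FusionSystem S} {G : FusionSystem V}
  {L : FusionSystem T} {p : ℕ}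

theorem system_ext {A B : FusionSystem S} (h₁ : A.IsSubsystemOf B) (h₂ : B.IsSubsystemOf A) :
    A = B := by
  have e : A.Hom = B.Hom := funext fun P => Set.Subset.antisymm (h₁ P) (h₂ P)
  cases A
  congr

theorem eq_of_subsystems (h₁ : L.IsSubsystemOf G) (h₂ : G.IsSubsystemOf L) : T = V :=
  le_antisymm (Layer.le_of_isSubsystemOf h₁) (Layer.le_of_isSubsystemOf h₂)

/-- A component of a system inside a normal subsystem is a component of it. -/
theorem subnormal_meet {U : Subgroup Ω} {C : FusionSystem U} {S : Subgroup Ω} {F : FusionSystem S}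
    (hC : C.IsSubnormalIn F p) :
    C.Quasisimple p → p.Prime → Finite S → IsPGroup p S → ∀ {T : Subgroup Ω} {D : FusionSystem T},
      D.IsNormalIn F p → U ≤ T → C.IsSubnormalIn D p := by
  induction hC with
  | @refl F p =>
    intro hq hp hfin hS T D hD hST
    haveI := hfin
    haveI : Fact p.Prime := ⟨hp⟩
    cases le_antisymm hD.1.2.2.2.1.1 hST
    cases system_ext (Layer.le_of_quasisimple hS hq hD.1) hD.1.2.2.1
    exact .refl _ _
  | @step W S C H F p hCH hH ih =>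
    intro hq hp hfin hS T D hD hUT
    haveI := hfin
    haveI : Fact p.Prime := ⟨hp⟩
    have hWS := hH.1.2.2.2.1.1
    haveI := finite_of_le hWS
    have hWp : IsPGroup p W := hS.of_injective _ (Subgroup.inclusion_injective hWS)
    obtain ⟨N, ⟨-, hNH, hND⟩, -⟩ := Meet.exists_meet hS hH hD
    exact .step (ih hq hp inferInstance hWp hNH (le_inf (subnormal_le hCH) hUT)) hND

variable [Finite S] [Fact p.Prime]

/-- The layer of a saturated system is invariant under its automorphisms. -/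
theorem layer_aut {G : FusionSystem S} (hS : IsPGroup p S) (hG : G.IsSaturated p)
    (hL : L.IsLayerOf G p) {a : MulAut S}
    (h₁ : ∀ (P : Subgroup Ω) (f : Ω → Ω), IsMap G P f →
      IsMap G (img P (autFun a)) (autFun a ∘ f ∘ autFun a⁻¹))
    (h₂ : ∀ (P : Subgroup Ω) (f : Ω → Ω), IsMap G P f →
      IsMap G (img P (autFun a⁻¹)) (autFun a⁻¹ ∘ f ∘ autFun a)) :
    (∀ x ∈ T, autFun a x ∈ T) ∧ ∀ (P : Subgroup Ω) (f : Ω → Ω), IsMap L P f →
      IsMap L (img P (autFun a)) (autFun a ∘ f ∘ autFun a⁻¹) := by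
  have hTS : T ≤ S := hL.1.1.2.2.2.1.1
  have himg : ∀ {b : MulAut S} {P : Subgroup Ω}, P ≤ S →
      imageAlong (S.subtype.comp b.toMonoidHom) P = img P (autFun b) := fun {b P} hP => by
    refine le_antisymm ?_ (IsMap.img_le_iff.mpr fun x hx => ?_)
    · rintro _ ⟨⟨x, hxS⟩, hx, rfl⟩
      rw [show S.subtype.comp b.toMonoidHom ⟨x, hxS⟩ = autFun b x from
        (autFun_apply b ⟨x, hxS⟩).symm]
      exact IsMap.apply_mem_img hx
    · rw [autFun_apply_mem b (hP hx)]
      exact ⟨⟨x, hP hx⟩, hx, rfl⟩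
  have hmor : ∀ b : MulAut S, (∀ (P : Subgroup Ω) (f : Ω → Ω), IsMap G P f →
      IsMap G (img P (autFun b)) (autFun b ∘ f ∘ autFun b⁻¹)) →
      G.IsMorphism G (S.subtype.comp b.toMonoidHom) := by
    intro b hb
    refine ⟨fun s => (b s).2, fun P φ hφ => ?_⟩
    have hP := G.le_of_mem hφ
    obtain ⟨ψ, hψ, eψ⟩ := hb P _ (isMap_of_mem hφ)
    rw [himg hP.1]
    refine ⟨ψ, hψ, hP.1, hP.2, fun x => ?_, fun x => ?_⟩
    · rw [show S.subtype.comp b.toMonoidHom ⟨x, hP.1 x.2⟩ = autFun b x from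
        (autFun_apply b ⟨x, hP.1 x.2⟩).symm]
      exact IsMap.apply_mem_img x.2
    · refine (eψ _).trans ?_
      show autFun b (toFun' φ (autFun b⁻¹ ((b ⟨x, hP.1 x.2⟩ : S) : Ω))) =
        ((b ⟨φ x, hP.2 x⟩ : S) : Ω)
      rw [← autFun_apply b ⟨x, hP.1 x.2⟩, autFun_inv_apply' b (hP.1 x.2), toFun'_apply φ x]
      exact autFun_apply b ⟨φ x, hP.2 x⟩
  obtain ⟨hT, hmap⟩ := layer_invariant hS hG (hmor a h₁)
    (hmor a⁻¹ fun P f hf => by simpa using h₂ P f hf) hL
  refine ⟨fun x hx => ?_, fun P f hf => ?_⟩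
  · rw [← hT, himg hTS]
    exact IsMap.apply_mem_img hx
  · obtain ⟨φ, hφ, e⟩ := id hf
    have hφG := hL.1.1.2.2.1 P hφ
    obtain ⟨φ', hφ', hind⟩ := (hmor a h₁).2 P φ hφG
    have hLm := isMap_of_mem (hmap P φ hφ φ' hind)
    refine (hLm.mono (himg (hf.le.trans hTS)).ge).congr fun y hy => ?_
    obtain ⟨hP, hφS, hP', hi⟩ := hind
    rw [← himg (hf.le.trans hTS)] at hy
    obtain ⟨⟨x, hxS⟩, hx, rfl⟩ := hy
    rw [toFun'_apply_mem φ' (hP' ⟨x, hx⟩)]
    refine Eq.trans ?_ (hi ⟨x, hx⟩).symm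
    show autFun a (f (autFun a⁻¹ ((a ⟨x, hxS⟩ : S) : Ω))) = ((a ⟨φ ⟨x, hx⟩, _⟩ : S) : Ω)
    rw [← autFun_apply a ⟨x, hxS⟩, autFun_inv_apply' a hxS, ← e ⟨x, hx⟩]
    exact autFun_apply a ⟨φ ⟨x, hx⟩, hφS ⟨x, hx⟩⟩

/-- The layer of a normal subsystem is normal. -/
theorem layer_normal (hS : IsPGroup p S) (hG : G.IsNormalIn F p) (hL : L.IsLayerOf G p) :
    L.IsNormalIn F p := by
  obtain ⟨hGs, hF, hGinv⟩ := hG.1
  obtain ⟨hLs, -, hLinv⟩ := hL.1.1
  have hVS : V ≤ S := hGinv.2.1.1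
  have hTV : T ≤ V := hLinv.2.1.1
  haveI := finite_of_le hVS
  haveI := finite_of_le (hTV.trans hVS)
  have hVp : IsPGroup p V := hS.of_injective _ (Subgroup.inclusion_injective hVS)
  have hTp : IsPGroup p T := hVp.of_injective _ (Subgroup.inclusion_injective hTV)
  have hinvA : ∀ a ∈ F.autGroup V, (∀ x ∈ T, autFun a x ∈ T) ∧
      ∀ (P : Subgroup Ω) (f : Ω → Ω), IsMap L P f →
        IsMap L (img P (autFun a)) (autFun a ∘ f ∘ autFun a⁻¹) := fun a ha =>
    layer_aut hVp hGs hL (fun P f hf => invariant_transportT hGinv hVS hf ha) fun P f hf => by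
      simpa using invariant_transportT hGinv hVS hf (Subgroup.inv_mem _ ha)
  have hsub : L.IsSubsystemOf F := fun P => (hLinv.1 P).trans (hGinv.1 P)
  have hsc : F.StronglyClosed T := stronglyClosed_of_apply (hTV.trans hVS) fun P f hf x hx hxT => by
    have hle : Subgroup.zpowers x ≤ P := Subgroup.zpowers_le.mpr hx
    obtain ⟨a, ha, g, hg, e⟩ := invariant_frattiniT hGinv
      (Subgroup.zpowers_le.mpr (hTV hxT)) (hf.mono hle)
    rw [e x (Subgroup.mem_zpowers x)]
    exact (hinvA a ha).1 _ (stronglyClosed_apply hLinv.2.1 hg (Subgroup.mem_zpowers x) hxT)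
  have hX : StrongInv L F := by
    intro P Q hPQ hQ f hf hfQ g hg h hh
    obtain ⟨a, ha, g₀, hg₀, he⟩ := invariant_frattiniT hGinv (hQ.trans hTV) hg
    obtain ⟨d, hd, -, hdl, -⟩ := (hg₀.mono hPQ).exists_inv
    have h1 := strongInv_of_invariant hLinv P Q hPQ hQ f hf hfQ g₀ hg₀ (g₀ ∘ (f ∘ d))
      fun x hx => by
        show g₀ (f (d (g₀ x))) = g₀ (f x)
        rw [hdl x hx]
    have h2 := (hinvA a ha).2 _ _ h1
    have hle : img P g ≤ img (img P g₀) (autFun a) := IsMap.img_le_iff.mpr fun x hx => by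
      rw [he x (hPQ hx)]
      exact IsMap.apply_mem_img (IsMap.apply_mem_img hx)
    refine (h2.mono hle).congr fun y hy => ?_
    obtain ⟨x, hx, rfl⟩ := (hg.mono hPQ).mem_img.mp hy
    rw [hh x hx, he _ (hfQ x hx)]
    show _ = autFun a (g₀ (f (d (autFun a⁻¹ (g x)))))
    rw [he x (hPQ hx), autFun_inv_apply' a (hg₀.mem_S (hPQ hx)), hdl x hx]
  have hw : L.IsWeaklyNormalIn F p :=
    ⟨hLs, hF, (invariant_iff_strongInv hS hF hsub hsc).mpr hX⟩
  have hspec := PrimeIndex.residual_spec hTp hLs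
  have hR := WeaklyNormal.residual_normal hS hw hspec
  have hRG := WeaklyNormal.residual_normal hVp hL.1.1 hspec
  have hLR := hL.2.2 _ _ hRG fun U C hC => Layer.component_le hC.1 hC.2 Fact.out inferInstance hVp
    hRG (Layer.le_of_isSubsystemOf (hL.2.1 U C hC))
  exact system_ext hLR hspec.2.1.1 ▸ hR

/-- The layer of a normal subsystem is its own layer. -/
theorem layer_own (hS : IsPGroup p S) (hG : G.IsNormalIn F p) (hL : L.IsLayerOf G p) :
    L.IsLayerOf L p := by
  have hVS : V ≤ S := hG.1.2.2.2.1.1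
  have hTV : T ≤ V := hL.1.1.2.2.2.1.1
  haveI := finite_of_le hVS
  haveI := finite_of_le (hTV.trans hVS)
  have hVp : IsPGroup p V := hS.of_injective _ (Subgroup.inclusion_injective hVS)
  have hTp : IsPGroup p T := hVp.of_injective _ (Subgroup.inclusion_injective hTV)
  have hself := Layer.isNormalIn_self hL.1.1.1
  obtain ⟨T', L', hL'⟩ := Layer.exists_layer hTp hL.1.1.1
  have hL'G := layer_normal hVp hL.1 hL'
  have hle := hL.2.2 _ L' hL'G fun U C hC => hL'.2.1 U C
    ⟨subnormal_meet hC.1 hC.2 Fact.out inferInstance hVp hL.1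
      (Layer.le_of_isSubsystemOf (hL.2.1 U C hC)), hC.2⟩
  refine ⟨hself, fun U C hC => Layer.component_le hC.1 hC.2 Fact.out inferInstance hTp hself
    (subnormal_le hC.1), fun R D hD hDc P => (hle P).trans (hL'.2.2 R D hD hDc P)⟩

end Cfsg.Lib.Fusion.CompNormal
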