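import Cfsg.Agent.Fusion.CompNormal.Main

/-!
The components of a central product are components of the factors.
-/

set_option autoImplicit false
set_option linter.unusedSectionVars false
set_option linter.style.haveILetI false

namespace Cfsg.Lib.Fusion.CompNormal

open Cfsg Cfsg.FusionSystem Cfsg.Lib.Fusion
open Cfsg.Lib.Fusion.CPair

universe u

variable {Ω : Type u} [Group Ω] {S S₁ S₂ U : Subgroup Ω} {F : FusionSystem S}
  {F₁ : FusionSystem S₁} {F₂ : FusionSystem S₂} {p : ℕ} [Finite S] [Fact p.Prime]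

/-- The subgroups of a central product commute and generate. -/
theorem comm_of_centralProduct (hc : IsCentralProductOf F₁ F₂ F) :
    (∀ a ∈ S₁, ∀ b ∈ S₂, a * b = b * a) ∧ S = S₁ ⊔ S₂ := by
  obtain ⟨D₀, -, Z, θ, -, -, -, hθ₁, hθ₂, hfac⟩ := hc
  refine ⟨fun a ha b hb => ?_, hfac.2.2.1.symm.trans (range_pair hθ₁ hθ₂)⟩
  have h₁ : ((a, 1) : Ω × Ω) ∈ S₁.prod S₂ := ⟨ha, S₂.one_mem⟩
  have h₂ : ((1, b) : Ω × Ω) ∈ S₁.prod S₂ := ⟨S₁.one_mem, hb⟩
  conv_lhs => rw [← hθ₁ a h₁, ← hθ₂ b h₂, ← map_mul]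
  conv_rhs => rw [← hθ₂ b h₂, ← hθ₁ a h₁, ← map_mul]
  exact congrArg θ (Subtype.ext (Prod.ext (by simp) (by simp)))

theorem stronglyClosed_inner_of_commute (hS : S = S₁ ⊔ S₂)
    (hc : ∀ a ∈ S₁, ∀ b ∈ S₂, a * b = b * a) : (innerFusionSystem S).StronglyClosed S₁ := by
  refine stronglyClosed_of_apply (hS ▸ le_sup_left) fun P f hf x hx hxS => ?_
  obtain ⟨φ, ⟨-, g, hg, eg⟩, e⟩ := hf
  rw [← e ⟨x, hx⟩, eg]
  obtain ⟨a, ha, b, hb, rfl⟩ := (mem_sup_of_comm hc).mp (hS.le hg)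
  show a * b * x * (a * b)⁻¹ ∈ S₁
  rw [show a * b * x * (a * b)⁻¹ = a * (b * x * b⁻¹) * a⁻¹ by group, ← hc x hxS b hb,
    mul_inv_cancel_right]
  exact S₁.mul_mem (S₁.mul_mem ha hxS) (S₁.inv_mem ha)

/-- A component of a central product is a component of a factor. -/
theorem component_factor (hS : IsPGroup p S) (hF : F.IsSaturated p) (h₁ : F₁.IsSaturated p)
    (h₂ : F₂.IsSaturated p) (h₂F : F₂.IsSubsystemOf F) (hprod : IsCentralProductOf F₁ F₂ F) {C : FusionSystem U}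
    (hC : C.IsComponentIn F p) : C.IsComponentIn F₁ p ∨ C.IsComponentIn F₂ p := by
  obtain ⟨hcm, hSe⟩ := comm_of_centralProduct hprod
  have hcm' : ∀ a ∈ S₂, ∀ b ∈ S₁, a * b = b * a := fun a ha b hb => (hcm b hb a ha).symm
  have hc : CPair.Comm (innerFusionSystem S) S₁ S₂ :=
    ⟨stronglyClosed_inner_of_commute hSe hcm,
      stronglyClosed_inner_of_commute (hSe.trans (sup_comm _ _)) hcm', hcm⟩
  have hS₁S : S₁ ≤ S := hc.sc₁.1
  have hS₂S : S₂ ≤ S := hc.sc₂.1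
  haveI := finite_of_le hS₁S
  haveI := finite_of_le hS₂S
  obtain ⟨-, hiff⟩ := isMap_of_centralProduct hc hprod
  have hA₁ := inf_le_center_of_centralProduct hc hprod
  have hkey : ∀ {W : Subgroup Ω} {A B : Subgroup Ω} {EA : FusionSystem A} {EB : FusionSystem B}
      (D : FusionSystem W), W = A ⊔ B → CPair.Comm (innerFusionSystem S) A B →
      A ⊓ B ≤ EA.center → EA.IsSaturated p → D.IsSaturated p →
      (∀ (P : Subgroup Ω) (f : Ω → Ω), IsMap D P f ↔ P ≤ A ⊔ B ∧ Splits EA EB P f) →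
      EA.IsNormalIn D p := by
    intro W A B EA EB D e hAB hA hs hD hi
    subst e
    haveI := finite_of_le hAB.sc₁.1
    exact normal_of_factor hAB hA hD hi (Layer.isNormalIn_self hs)
  have hn₁ : F₁.IsNormalIn F p := hkey F hSe hc hA₁ h₁ hF hiff
  rcases dichotomy hC.1 hC.2 Fact.out inferInstance hS hn₁ with h | ⟨hU₁, -⟩
  · exact Or.inl ⟨subnormal_meet hC.1 hC.2 Fact.out inferInstance hS hn₁
      (Layer.le_of_isSubsystemOf h), hC.2⟩
  -- the second factor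
  have hA₂ : S₂ ⊓ S₁ ≤ F₂.center := by
    refine inf_le_center hS hS₂S h₂ hcm' fun P f hf x hx hxS => ?_
    have hxA : x ∈ S₁ ⊓ S₂ := ⟨hxS, hf.le hx⟩
    obtain ⟨hP, f₁, f₂, hf₁, hf₂, hs⟩ := (hiff P f).mp (CharSub.isMap_of_sub h₂F hf)
    have hxp : x ∈ prj S₁ S₂ P := ⟨Subgroup.mem_sup_left hx, hxS⟩
    have := hs x hxp 1 (Subgroup.one_mem _) (by rwa [mul_one])
    rwa [mul_one, hf₂.map_one, mul_one, apply_of_mem_center (hA₁ hxA) hf₁ hxp] at this
  have hn₂ : F₂.IsNormalIn F p := hkey F (hSe.trans (sup_comm _ _)) hc.symm hA₂ h₂ hF fun P f => by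
    rw [hiff, sup_comm S₂ S₁]
    exact and_congr_right fun _ => ⟨splits_symm hc, splits_symm hc.symm⟩
  rcases dichotomy hC.1 hC.2 Fact.out inferInstance hS hn₂ with h | ⟨hU₂, -⟩
  · exact Or.inr ⟨subnormal_meet hC.1 hC.2 Fact.out inferInstance hS hn₂
      (Layer.le_of_isSubsystemOf h), hC.2⟩
  have hUS := subnormal_le hC.1
  haveI := finite_of_le hUS
  refine absurd ⟨⟨fun a b => Subtype.ext ?_⟩⟩ (Cfsg.Agent.S5148.result p
    (hS.of_injective _ (Subgroup.inclusion_injective hUS)) C hC.2)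
  obtain ⟨c, hc₁, d, hd, e⟩ := hc.mem_sup.mp (hSe ▸ hUS b.2)
  show (a : Ω) * b = b * a
  rw [← e, ← mul_assoc, NormCent.centralizerIn_comm (hU₁ a.2) hc₁, mul_assoc,
    NormCent.centralizerIn_comm (hU₂ a.2) hd, mul_assoc]

end Cfsg.Lib.Fusion.CompNormal
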