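import Cfsg.Agent.Fusion.CentralPair.System

/-!
A normal subsystem of a factor is normal in the central product.
-/

set_option autoImplicit false
set_option linter.unusedSectionVars false
set_option linter.style.haveILetI false

namespace Cfsg.Lib.Fusion.CompNormal

open Cfsg Cfsg.FusionSystem Cfsg.Lib.Fusion
open Cfsg.Lib.Fusion.CPair

universe u

variable {Ω : Type u} [Group Ω] {S T₁ T₂ U : Subgroup Ω} {F : FusionSystem S}
  {E₁ : FusionSystem T₁} {E₂ : FusionSystem T₂} {p : ℕ} [Finite S] [Fact p.Prime]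

theorem splits_symm (h : Comm F T₁ T₂) {P : Subgroup Ω} {f : Ω → Ω} (hs : Splits E₁ E₂ P f) :
    Splits E₂ E₁ P f := by
  obtain ⟨f₁, f₂, h₁, h₂, hs⟩ := hs
  refine ⟨f₂, f₁, h₂, h₁, fun b hb a ha hba => ?_⟩
  have hc := h.comm a (prj_le ha) b (prj_le hb)
  rw [← hc] at hba ⊢
  rw [hs a ha b hb hba, h.comm _ (h₁.mem_S ha) _ (h₂.mem_S hb)]

/-- The maps of a factor split. -/
theorem splits_left (h : Comm F T₁ T₂) (hA : T₁ ⊓ T₂ ≤ E₁.center) {P : Subgroup Ω} {f : Ω → Ω}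
    (hf : IsMap E₁ P f) : Splits E₁ E₂ P f := by
  haveI := finite_of_le h.sc₁.1
  have hPT : P ≤ T₁ := hf.le
  obtain ⟨-, hcen⟩ := isCentral_iff.mp (isCentral_center (F := E₁))
  obtain ⟨k, hk, hkf, hkz⟩ := hcen P f hf
  have hle : prj T₁ T₂ P ≤ P ⊔ E₁.center := fun x hx => by
    obtain ⟨hxT, b, hb, hxb⟩ := (h.mem_prj (hPT.trans le_sup_left)).mp hx
    have hbT : b ∈ T₁ := by
      have := T₁.mul_mem (T₁.inv_mem hxT) (hPT hxb)
      rwa [inv_mul_cancel_left] at this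
    rw [show x = (x * b) * b⁻¹ by group]
    exact Subgroup.mul_mem _ (Subgroup.mem_sup_left hxb)
      (Subgroup.mem_sup_right (E₁.center.inv_mem (hA ⟨hbT, hb⟩)))
  refine ⟨k, id, hk.mono hle, isMap_id prj_le, fun a ha b hb hab => ?_⟩
  have haT : a ∈ T₁ := prj_le ha
  have hbT : b ∈ T₁ := by
    have := T₁.mul_mem (T₁.inv_mem haT) (hPT hab)
    rwa [inv_mul_cancel_left] at this
  have hbZ : b ∈ E₁.center := hA ⟨hbT, prj_le hb⟩
  show f (a * b) = k a * b
  rw [← hkf _ hab, hk.map_mul (hle ha) (Subgroup.mem_sup_right hbZ), hkz b hbZ]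

/-- A normal subsystem of a factor is normal in the product. -/
theorem normal_of_factor (h : Comm F T₁ T₂) (hA : T₁ ⊓ T₂ ≤ E₁.center)
    {D : FusionSystem (T₁ ⊔ T₂ : Subgroup Ω)} (hDs : D.IsSaturated p)
    (hiff : ∀ (P : Subgroup Ω) (f : Ω → Ω), IsMap D P f ↔ P ≤ T₁ ⊔ T₂ ∧ Splits E₁ E₂ P f)
    {K : FusionSystem U} (hK : K.IsNormalIn E₁ p) : K.IsNormalIn D p := by
  obtain ⟨⟨hKs, -, hsub, hsc, hconj, hfrat⟩, hext⟩ := hK
  have hUT : U ≤ T₁ := hsc.1
  haveI := finite_of_le h.sc₁.1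
  have hT₁ : T₁ ≤ T₁ ⊔ T₂ := le_sup_left
  have hdown : ∀ {P : Subgroup Ω} {f : Ω → Ω}, P ≤ T₁ → IsMap D P f → IsMap E₁ P f := by
    intro P f hP hf
    obtain ⟨hPT, f₁, f₂, h₁, h₂, hs⟩ := (hiff P f).mp hf
    have hPp : P ≤ prj T₁ T₂ P := le_inf le_sup_left hP
    refine (h₁.mono hPp).congr fun x hx => ?_
    have := hs x (hPp hx) 1 (Subgroup.one_mem _) (by rwa [mul_one])
    rwa [mul_one, h₂.map_one, mul_one] at this
  have hup : ∀ {P : Subgroup Ω} {f : Ω → Ω}, IsMap E₁ P f → IsMap D P f := fun hf =>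
    (hiff _ _).mpr ⟨hf.le.trans hT₁, splits_left h hA hf⟩
  have haut : ∀ α ∈ D.autGroup U, α ∈ E₁.autGroup U := fun α hα =>
    (isMap_autFun hUT).mp (hdown hUT ((isMap_autFun (hUT.trans hT₁)).mpr hα))
  have haut' : ∀ α ∈ E₁.autGroup U, α ∈ D.autGroup U := fun α hα =>
    (isMap_autFun (hUT.trans hT₁)).mp (hup ((isMap_autFun hUT).mpr hα))
  refine ⟨⟨hKs, hDs, fun P φ hφ => IsMap.mem_toFun' (hup (isMap_of_mem (hsub P hφ))),
    stronglyClosed_of_apply (hUT.trans hT₁) fun P f hf x hx hxU => ?_,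
    fun P hP φ hφ α hα => hconj P hP φ hφ α (haut α hα), fun P hP φ hφ => ?_⟩, fun α hα => ?_⟩
  · have hle : Subgroup.zpowers x ≤ P := Subgroup.zpowers_le.mpr hx
    exact stronglyClosed_apply hsc
      (hdown (Subgroup.zpowers_le.mpr (hUT hxU)) (hf.mono hle)) (Subgroup.mem_zpowers x) hxU
  · obtain ⟨α, hα, φ₀, hφ₀, e⟩ :=
      hfrat P hP φ (IsMap.mem_toFun' (hdown (hP.trans hUT) (isMap_of_mem hφ)))
    exact ⟨α, haut' α hα, φ₀, hφ₀, e⟩
  · set B := U ⊔ centralizerIn T₁ U with hBdef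
    obtain ⟨β, hβ, eβ, hβc⟩ := hext α hα
    have hBT : B ≤ T₁ := sup_le hUT inf_le_left
    have hβm : IsMap E₁ B (autFun β) := (isMap_autFun hBT).mpr hβ
    set X := U ⊔ centralizerIn (T₁ ⊔ T₂) U
    have hXT : X ≤ T₁ ⊔ T₂ := sup_le (hUT.trans hT₁) inf_le_left
    have hAB : T₁ ⊓ T₂ ≤ B := fun z hz => Subgroup.mem_sup_right (Fusion.mem_centralizerIn.mpr
      ⟨hz.1, fun x hx => by rw [← h.comm x (hUT hx) z hz.2, mul_inv_cancel_right]⟩)
    have hfixA : ∀ z ∈ T₁ ⊓ T₂, autFun β z = z := fun z hz =>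
      apply_of_mem_center (hA hz) hβm (hAB hz)
    -- the decomposition of the source
    have hXB : X ≤ B ⊔ T₂ := sup_le (le_sup_left.trans le_sup_left) fun c hc => by
      obtain ⟨a, ha, b, hb, rfl⟩ := h.mem_sup.mp hc.1
      refine Subgroup.mul_mem _ (Subgroup.mem_sup_left (Subgroup.mem_sup_right
        (Fusion.mem_centralizerIn.mpr ⟨ha, fun x hx => ?_⟩))) (Subgroup.mem_sup_right hb)
      have h1 := (Fusion.mem_centralizerIn.mp hc).2 x hx
      rw [show a * b * x * (a * b)⁻¹ = a * (b * x * b⁻¹) * a⁻¹ by group,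
        ← h.comm x (hUT hx) b hb, mul_inv_cancel_right] at h1
      exact h1
    have hB : prj T₁ T₂ X ≤ B := fun a ha => by
      obtain ⟨haT, b, hb, hab⟩ := (h.mem_prj hXT).mp ha
      obtain ⟨a', ha', b', hb', e⟩ : ∃ a' ∈ B, ∃ b' ∈ T₂, a' * b' = a * b :=
        (mem_sup_of_comm fun a ha b hb => h.comm a (hBT ha) b hb).mp (hXB hab)
      have hz : a'⁻¹ * a ∈ T₁ ⊓ T₂ := ⟨T₁.mul_mem (T₁.inv_mem (hBT ha')) haT, by
        have : a'⁻¹ * a = b' * b⁻¹ := by
          rw [show b' = a'⁻¹ * (a * b) by rw [← e]; group]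
          group
        show a'⁻¹ * a ∈ T₂
        rw [this]
        exact T₂.mul_mem hb' (T₂.inv_mem hb)⟩
      have := B.mul_mem ha' (hAB hz)
      rwa [mul_inv_cancel_left] at this
    set g : Ω → Ω := fun x => open Classical in
      if hx : ∃ y, ∃ a ∈ B, ∃ b ∈ T₂, a * b = x ∧ y = autFun β a * b then
        Classical.choose hx
      else 1 with hg
    have hval : ∀ a ∈ B, ∀ b ∈ T₂, g (a * b) = autFun β a * b := by
      intro a ha b hb
      have hx : ∃ y, ∃ a' ∈ B, ∃ b' ∈ T₂, a' * b' = a * b ∧ y = autFun β a' * b' :=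
        ⟨_, a, ha, b, hb, rfl, rfl⟩
      simp only [hg, dif_pos hx]
      obtain ⟨a', ha', b', hb', e, hy⟩ := Classical.choose_spec hx
      rw [hy]
      have hz : a⁻¹ * a' = b * b'⁻¹ := by
        rw [show a' = a * b * b'⁻¹ by rw [← e, mul_inv_cancel_right]]
        group
      have hzA : a⁻¹ * a' ∈ T₁ ⊓ T₂ :=
        ⟨T₁.mul_mem (T₁.inv_mem (hBT ha)) (hBT ha'), hz ▸ T₂.mul_mem hb (T₂.inv_mem hb')⟩
      rw [show a' = a * (a⁻¹ * a') by group, hβm.map_mul ha (hAB hzA), hfixA _ hzA, hz]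
      group
    have hgm : IsMap D X g := (hiff X g).mpr ⟨hXT, autFun β, id, hβm.mono hB, isMap_id prj_le,
      fun a ha b hb _ => hval a (hB ha) b (prj_le hb)⟩
    have hgX : img X g = X := by
      haveI : Finite X := finite_of_le (hXT.trans h.le_S)
      refine Subgroup.eq_of_le_of_card_ge ?_ hgm.card_img.ge
      refine IsMap.img_le_iff.mpr fun x hx => ?_
      obtain ⟨a, ha, b, hb, rfl⟩ :=
        (mem_sup_of_comm fun a ha b hb => h.comm a (hBT ha) b hb).mp (hXB hx)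
      rw [hval a ha b hb]
      have haX : a ∈ X := (sup_le_sup_left
        (fun c hc => ⟨hT₁ hc.1, hc.2⟩) U : B ≤ X) ha
      refine X.mul_mem ((sup_le_sup_left (fun c hc => ⟨hT₁ hc.1, hc.2⟩) U : B ≤ X)
        (autFun_mem β ha)) ?_
      have := X.mul_mem (X.inv_mem haX) hx
      rwa [inv_mul_cancel_left] at this
    obtain ⟨γ, hγ, eγ⟩ := hgm.exists_aut hgX
    refine ⟨γ, hγ, fun x => ?_, fun c hc => ?_⟩
    · have h1 := eγ x (Subgroup.mem_sup_left x.2)
      have h2 := hval x (Subgroup.mem_sup_left x.2) 1 T₂.one_mem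
      rw [mul_one, mul_one, autFun_apply_mem β (Subgroup.mem_sup_left x.2)] at h2
      rw [h2, autFun_apply_mem γ (Subgroup.mem_sup_left x.2)] at h1
      exact h1.trans (eβ x)
    · obtain ⟨a, ha, b, hb, hab⟩ :=
        (mem_sup_of_comm fun a ha b hb => h.comm a (hBT ha) b hb).mp (hXB c.2)
      have haC : a ∈ centralizerIn T₁ U := Fusion.mem_centralizerIn.mpr ⟨hBT ha, fun x hx => by
        have h1 := (Fusion.mem_centralizerIn.mp hc).2 x hx
        rw [← hab, show a * b * x * (a * b)⁻¹ = a * (b * x * b⁻¹) * a⁻¹ by group,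
          ← h.comm x (hUT hx) b hb, mul_inv_cancel_right] at h1
        exact h1⟩
      have hz := hβc ⟨a, ha⟩ haC
      rw [← autFun_apply β ⟨a, ha⟩] at hz
      rw [← autFun_apply γ c, eγ _ c.2, ← hab, hval a ha b hb]
      have e : (a * b)⁻¹ * (autFun β a * b) = a⁻¹ * autFun β a := by
        rw [show (a * b)⁻¹ * (autFun β a * b) = b⁻¹ * (a⁻¹ * autFun β a * b) by group,
          h.comm _ (hUT hz.1) b hb, inv_mul_cancel_left]
      exact e.symm ▸ hz

end Cfsg.Lib.Fusion.CompNormal
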