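import Cfsg.Agent.Fusion.CompNormal.Dichotomy
import Cfsg.Agent.Fusion.CompNormal.LayerNormal
import Cfsg.Agent.Fusion.CompNormal.Product
import Cfsg.Agent.Fusion.Fitting.Normal

/-!
Components are normal in the layer and in the generalized Fitting subsystem.
-/

set_option autoImplicit false
set_option linter.unusedSectionVars false
set_option linter.style.haveILetI false

namespace Cfsg.Lib.Fusion.CompNormal

open Cfsg Cfsg.FusionSystem Cfsg.Lib.Fusion

universe u

variable {Ω : Type u} [Group Ω] {S T Y : Subgroup Ω} {F : FusionSystem S} {E : FusionSystem T}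
  {p : ℕ}

theorem normal_congr {U V : Subgroup Ω} {K : FusionSystem U} {A : FusionSystem S}
    {B : FusionSystem V} (hK : K.IsNormalIn A p) (h₁ : A.IsSubsystemOf B)
    (h₂ : B.IsSubsystemOf A) : K.IsNormalIn B p := by
  cases eq_of_subsystems h₁ h₂
  exact system_ext h₁ h₂ ▸ hK

/-- A commuting subgroup fixed by every map meets the carrier centrally. -/
theorem inf_le_center [Finite S] [Fact p.Prime] (hS : IsPGroup p S) (hTS : T ≤ S)
    (hEs : E.IsSaturated p)
    (hc : ∀ a ∈ T, ∀ b ∈ Y, a * b = b * a)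
    (hfix : ∀ (P : Subgroup Ω) (f : Ω → Ω), IsMap E P f → ∀ x ∈ P, x ∈ Y → f x = x) :
    T ⊓ Y ≤ E.center := by
  haveI := finite_of_le hTS
  have hTp : IsPGroup p T := hS.of_injective _ (Subgroup.inclusion_injective hTS)
  have hsc : E.StronglyClosed (T ⊓ Y) := stronglyClosed_of_apply inf_le_left
    fun P f hf x hx hxY => ⟨hf.mem_S hx, (hfix P f hf x hx hxY.2).symm ▸ hxY.2⟩
  have hn : E.IsNormal (T ⊓ Y) := isNormal_of_le_radical hTp hEs hsc fun P _ hPc _ x hx =>
    hPc.2 P (isConj_refl hPc.1) (Fusion.mem_centralizerIn.mpr ⟨hx.1, fun y hy => by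
      rw [← hc y (hPc.1 hy) x hx.2, mul_inv_cancel_right]⟩)
  refine le_sSup (isCentral_iff.mpr ⟨inf_le_left, fun P f hf => ?_⟩)
  obtain ⟨k, hk, hkf, -⟩ := extend_of_isNormal hn hf
  exact ⟨k, hk, hkf, fun x hx => hfix _ k hk x (Subgroup.mem_sup_right hx) hx.2⟩

theorem own_inner {U : Subgroup Ω} {K : FusionSystem U} {S : Subgroup Ω} {F : FusionSystem S}
    (hK : K.IsSubnormalIn F p) :
    K.Quasisimple p → p.Prime → Finite S → IsPGroup p S → F.IsLayerOf F p →
      (∀ {S' : Subgroup Ω} (F' : FusionSystem S'), Nat.card S' < Nat.card S → Finite S' →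
        IsPGroup p S' → F'.IsLayerOf F' p → K.IsComponentIn F' p → K.IsNormalIn F' p) →
      K.IsNormalIn F p := by
  induction hK with
  | @refl F p =>
    intro hq hp hfin hS _ _
    haveI := hfin
    haveI : Fact p.Prime := ⟨hp⟩
    exact Layer.isNormalIn_self hq.1
  | @step W S K H F p hKH hH ih =>
    intro hq hp hfin hS hown hsmall
    haveI := hfin
    haveI : Fact p.Prime := ⟨hp⟩
    have hWS := hH.1.2.2.2.1.1
    haveI := finite_of_le hWS
    have hWp : IsPGroup p W := hS.of_injective _ (Subgroup.inclusion_injective hWS)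
    have hKF : K.IsComponentIn F p := ⟨.step hKH hH, hq⟩
    by_cases hW : W = S
    · subst hW
      have hle : F.IsSubsystemOf H := hown.2.2 _ H hH fun U' C hC =>
        Layer.component_le hC.1 hC.2 hp hfin hS hH (subnormal_le hC.1)
      cases system_ext hle hH.1.2.2.1
      exact ih hq hp hfin hS hown hsmall
    obtain ⟨T, L, hL⟩ := Layer.exists_layer hWp hH.1.1
    have hLF := layer_normal hS hH hL
    have hLL := layer_own hS hH hL
    have hTS : T ≤ S := hLF.1.2.2.2.1.1
    haveI := finite_of_le hTS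
    have hTW : T ≤ W := hL.1.1.2.2.2.1.1
    have hlt : Nat.card T < Nat.card S := (Subgroup.card_le_of_le hTW).trans_lt
      (lt_of_le_of_ne (Subgroup.card_le_of_le hWS)
        fun e => hW (Subgroup.eq_of_le_of_card_ge hWS e.ge))
    have hKL := hsmall L hlt inferInstance
      (hS.of_injective _ (Subgroup.inclusion_injective hTS)) hLL
      ⟨subnormal_meet hKH hq hp inferInstance hWp hL.1
        (Layer.le_of_isSubsystemOf (hL.2.1 _ K ⟨hKH, hq⟩)), hq⟩
    obtain ⟨Y, hY, hmax⟩ := NormCent.exists_largest hS hLF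
    obtain ⟨DY, hDY, -, hDYc⟩ := NormCent.exists_centralizer_subsystem hS hLF hY hmax
    have hcomm : ∀ a ∈ T, ∀ b ∈ Y, a * b = b * a := fun a ha b hb =>
      (NormCent.centralizerIn_comm (hY.1 hb) ha).symm
    have hpair : CPair.Pair F L DY p := ⟨hS, hH.1.2.1, hLF, hDY, hcomm⟩
    have hA₁ : T ⊓ Y ≤ L.center :=
      inf_le_center hS hTS hLF.1.1 hcomm fun P f hf x hx hxY => by
        obtain ⟨g, -, eg, hgy⟩ := hY.2 P f hf
        rw [← eg x hx, hgy x hxY]
    have hA₂ : Y ⊓ T ≤ DY.center :=
      inf_le_center hS hDY.1.2.2.2.1.1 hDY.1.1 (fun a ha b hb => (hcomm b hb a ha).symm)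
        fun P f hf x hx hxT => by
          obtain ⟨φ, hφ, e⟩ := hf
          obtain ⟨-, -, -, g, -, hgf, hgT⟩ := mem_centralizerHom_iff.mp (hDYc P hφ)
          exact (e ⟨x, hx⟩).symm.trans ((toFun'_apply_mem φ hx).symm.trans
            ((hgf x hx).symm.trans (hgT x hxT)))
    obtain ⟨D, hD, hprod⟩ := CPair.exists_central_product hpair hA₁ (inf_comm T Y ▸ hA₂)
    obtain ⟨-, hiff⟩ := CPair.isMap_of_centralProduct hpair.toComm hprod
    have hKD := normal_of_factor hpair.toComm hA₁ hD.1.1 hiff hKL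
    refine normal_congr hKD hD.1.2.2.1 (hown.2.2 _ D hD fun U' C hC P φ hφ => IsMap.mem_toFun' ?_)
    rcases dichotomy hC.1 hC.2 hp hfin hS hLF with hle | hadm
    · have hm := CharSub.isMap_of_sub hle (isMap_of_mem hφ)
      exact (hiff _ _).mpr ⟨hm.le.trans le_sup_left, splits_left hpair.toComm hA₁ hm⟩
    · have hm := CharSub.isMap_of_sub
        (Layer.component_le hC.1 hC.2 hp hfin hS hDY (hmax _ hadm)) (isMap_of_mem hφ)
      exact (hiff _ _).mpr ⟨hm.le.trans le_sup_right,
        splits_symm hpair.toComm.symm (splits_left hpair.toComm.symm hA₂ hm)⟩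

theorem own_normal : ∀ (n : ℕ) {S : Subgroup Ω} (F : FusionSystem S), Nat.card S = n → p.Prime →
    Finite S → IsPGroup p S → F.IsLayerOf F p → ∀ {U : Subgroup Ω} {K : FusionSystem U},
      K.IsComponentIn F p → K.IsNormalIn F p := by
  intro n
  induction n using Nat.strong_induction_on with
  | _ n ih =>
  intro S F hn hp hfin hS hown U K hK
  exact own_inner hK.1 hK.2 hp hfin hS hown fun F' hlt hfin' hp' hown' hK' =>
    ih _ (hn ▸ hlt) F' rfl hp hfin' hp' hown' hK'

variable [Finite S] [Fact p.Prime]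

/-- Components are normal in the layer. -/
theorem normal_in_layer (hS : IsPGroup p S) (hF : F.IsSaturated p) (hE : E.IsLayerOf F p)
    {U : Subgroup Ω} {K : FusionSystem U} (hK : K.IsComponentIn F p) : K.IsNormalIn E p := by
  have hTS : T ≤ S := hE.1.1.2.2.2.1.1
  haveI := finite_of_le hTS
  exact own_normal _ E rfl Fact.out inferInstance
    (hS.of_injective _ (Subgroup.inclusion_injective hTS))
    (layer_own hS (Layer.isNormalIn_self hF) hE)
    ⟨subnormal_meet hK.1 hK.2 Fact.out inferInstance hS hE.1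
      (Layer.le_of_isSubsystemOf (hE.2.1 U K hK)), hK.2⟩

/-- Components are normal in the generalized Fitting subsystem. -/
theorem normal_in_fitting (hS : IsPGroup p S) (hF : F.IsSaturated p) {U V : Subgroup Ω}
    {C : FusionSystem U} (hC : C.IsComponentIn F p) {D : FusionSystem V}
    (hD : D.IsGeneralizedFittingOf F p) : C.IsNormalIn D p := by
  have hDn := (Fitting.exists_and_normal hS hF).2 V D hD
  obtain ⟨T, E, hE, hD⟩ := hD
  have hp := Fitting.pair_core_layer hS hF hE
  obtain ⟨rfl, hiff⟩ := CPair.isMap_of_centralProduct hp.toComm hD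
  have hA := Fitting.inf_le_center_layer hS hF hE
  have hA' : T ⊓ F.core ≤ E.center := inf_comm F.core T ▸ hA
  have key : ∀ {W : Subgroup Ω} (D : FusionSystem W), W = T ⊔ F.core → D.IsSaturated p →
      (∀ (P : Subgroup Ω) (f : Ω → Ω), IsMap D P f ↔
        P ≤ T ⊔ F.core ∧ CPair.Splits E (innerFusionSystem F.core) P f) → C.IsNormalIn D p := by
    intro W D e hs hi
    subst e
    exact normal_of_factor hp.toComm.symm hA' hs hi (normal_in_layer hS hF hE hC)
  refine key D (sup_comm _ _) hDn.1.1 fun P f => ?_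
  rw [hiff, sup_comm T F.core]
  exact and_congr_right fun _ => ⟨splits_symm hp.toComm, splits_symm hp.toComm.symm⟩

end Cfsg.Lib.Fusion.CompNormal
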